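import Groth.Agent.FlatMorAdm.Strict

/-! The strict transform ideal is the kernel of restriction to the complement of the centre. -/

set_option autoImplicit false
set_option backward.isDefEq.respectTransparency.types false

universe u

open CategoryTheory CategoryTheory.Limits AlgebraicGeometry TopologicalSpace
open Groth.Agent.ModPairLib (res res_res)

namespace Groth.Agent.FlatMorAdm

open BlowUpLib

theorem killedByPowerNear_iff_mem_ker {X : Scheme.{u}} (E : X.IdealSheafData) (hE : BlowUp.IsFiniteTypeIdeal E)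
    [QuasiCompact (ModPair.interior E).ι] (V : X.affineOpens) (a : Γ(X, V.1)) :
    a ∈ (ModPair.interior E).ι.ker.ideal V ↔
      BlowUp.KilledByPowerNear E (Coh.structureModule X) V a := by
  refine Iff.symm ?_
  set O := ModPair.interior E with hO
  rw [Scheme.Hom.ker_apply, RingHom.mem_ker, Scheme.Opens.ι_app]
  have hle : O.ι ''ᵁ O.ι ⁻¹ᵁ V.1 ≤ V.1 := by
    rintro _ ⟨y, hy, rfl⟩
    exact hy
  show (∃ n : ℕ, ∀ e : Γ(X, V.1), e ∈ (E ^ n).ideal V → e * a = 0) ↔ res hle a = 0
  constructor
  · rintro ⟨n, hn⟩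
    refine X.IsSheaf.section_ext fun x hx => ?_
    obtain ⟨y, hyV, rfl⟩ := hx
    have hne : ¬ E.ideal V ≤ prm (O.ι y) hyV := fun hle' =>
      y.2 ((mem_support_iff_le_prm E V hyV).2 hle')
    obtain ⟨e, he, hey⟩ := SetLike.not_le_iff_exists.1 hne
    have hby : O.ι y ∈ X.basicOpen e := by
      by_contra hc
      exact hey ((mem_prm (show O.ι y ∈ V.1 from hyV)).2 hc)
    obtain ⟨T, hyT, hT⟩ := exists_affine_mem_le
      (show O.ι y ∈ O.ι ''ᵁ O.ι ⁻¹ᵁ V.1 ⊓ X.basicOpen e from ⟨⟨y, hyV, rfl⟩, hby⟩)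
    refine ⟨T.1, hT.trans inf_le_left, hyT, ?_⟩
    rw [map_zero]
    show res (hT.trans inf_le_left) (res hle a) = 0
    have hu : IsUnit (res ((hT.trans inf_le_left).trans hle) e) := by
      rw [← res_res (X.basicOpen_le e) (hT.trans inf_le_right)]
      exact (RingedSpace.isUnit_res_basicOpen X.toRingedSpace e).map _
    have h0 := hn (e ^ n) (by
      rw [Scheme.IdealSheafData.ideal_pow, Pi.pow_apply]
      exact Ideal.pow_mem_pow he n)
    rw [res_res]
    refine (hu.pow n).mul_right_eq_zero.1 ?_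
    rw [← map_pow, ← map_mul, h0, map_zero]
  · intro ha
    obtain ⟨s, hs⟩ := hE V
    have hrad : E.ideal V ≤ (Ideal.span {a}).annihilator.radical := by
      rw [← hs, Submodule.span_le]
      intro e he
      have heO : X.basicOpen e ≤ O.ι ''ᵁ O.ι ⁻¹ᵁ V.1 := by
        intro x hx
        have hxV : x ∈ V.1 := X.basicOpen_le e hx
        have hxO : x ∈ O := fun hxs =>
          (mem_prm hxV).1 ((mem_support_iff_le_prm E V hxV).1 hxs
            (hs.le (Submodule.subset_span he))) hx
        exact ⟨⟨x, hxO⟩, hxV, rfl⟩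
      obtain ⟨n, hn⟩ := exists_pow_mul_eq_zero_of_res_basicOpen_eq_zero_of_isAffineOpen X V.2 a e
        (show res (X.basicOpen_le e) a = 0 by rw [← res_res hle heO, ha, map_zero])
      refine ⟨n, Submodule.mem_annihilator_span_singleton _ _ |>.2 ?_⟩
      rw [smul_eq_mul, hn]
    obtain ⟨n, hn⟩ := Ideal.exists_pow_le_of_le_radical_of_fg hrad (hE V)
    refine ⟨n, fun e he => ?_⟩
    rw [Scheme.IdealSheafData.ideal_pow, Pi.pow_apply] at he
    have := Submodule.mem_annihilator_span_singleton _ _ |>.1 (hn he)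
    rwa [smul_eq_mul] at this

end Groth.Agent.FlatMorAdm
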