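import Groth.Agent.FlatMorFlatten.FiniteFlat
import Groth.Agent.RatSplit13.Killed
import Groth.Agent.EGA43.ProperDvr.Closed
import Groth.Agent.BlowUpLib.Proper
import Groth.Agent.ProjLib.BlowUpBasics
import Groth.Agent.Resolve13.CurveBlowUp
import Groth.Agent.Coherent.CohBC.PushStructureIso
import Groth.Agent.S0414

/-! A finite cover of a regular modification dominating a given proper surjective scheme. -/

set_option autoImplicit false
set_option linter.style.haveILetI false
set_option backward.isDefEq.respectTransparency.types false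
set_option maxHeartbeats 1000000

universe u

open CategoryTheory CategoryTheory.Limits AlgebraicGeometry TopologicalSpace

namespace Groth.Agent.RatSplit13

theorem restrict_mono (P : MorphismProperty Scheme.{u}) [P.IsStableUnderBaseChange] {X Z : Scheme.{u}} (b : X ⟶ Z)
    {U U' : Z.Opens} (hle : U' ≤ U) (h : P (b ∣_ U)) : P (b ∣_ U') := by
  refine MorphismProperty.of_isPullback (P := P) (f := Z.homOfLE hle) (g := b ∣_ U)
    (f' := X.homOfLE (b.preimage_mono hle)) (g' := b ∣_ U') ?_ h
  refine IsPullback.of_right (h₁₂ := (b ⁻¹ᵁ U).ι) (h₂₂ := U.ι) (v₁₃ := b) ?_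
    (morphismRestrict_homOfLE b _ _ hle).symm (isPullback_morphismRestrict b U).flip
  rw [Scheme.homOfLE_ι, Scheme.homOfLE_ι]
  exact (isPullback_morphismRestrict b U').flip

/-- A birational morphism of integral schemes respects generic points. -/
theorem map_genericPoint {X Y : Scheme.{u}} [IsIntegral X] [IsIntegral Y] (f : X ⟶ Y) (U : Y.Opens)
    (hU : (U : Set Y).Nonempty) [IsIso (f ∣_ U)] : f (genericPoint X) = genericPoint Y := by
  have hη : genericPoint Y ∈ U :=
    ((genericPoint_spec Y).mem_open_set_iff U.2).2 ⟨hU.choose, trivial, hU.choose_spec⟩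
  obtain ⟨a, ha⟩ := (f ∣_ U).homeomorph.surjective ⟨genericPoint Y, hη⟩
  have ha' : f a.1 = genericPoint Y := (morphismRestrict_base_coe f U a).symm.trans (congrArg Subtype.val ha)
  exact ((((genericPoint_specializes a.1).map f.continuous).trans (specializes_of_eq ha')).antisymm
    (genericPoint_specializes _)).eq

theorem exists_cover (S : Scheme.{u}) [IsIntegral S] [AlgebraicGeometry.IsNoetherian S]
    (hres : ∀ (Y' : Scheme.{u}) (b : Y' ⟶ S) [IsIntegral Y'] [IsProper b],
      (∃ U : S.Opens, (U : Set S).Nonempty ∧ IsIso (b ∣_ U)) →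
      ∃ (W : Scheme.{u}) (μ : W ⟶ Y'), IsIntegral W ∧ IsProper μ ∧ (∀ w : W, IsRegularLocalRing (W.presheaf.stalk w)) ∧
        ∃ V : Y'.Opens, (V : Set Y').Nonempty ∧ IsIso (μ ∣_ V))
    {Y : Scheme.{u}} (g : Y ⟶ S) [IsProper g] [Surjective g] :
    ∃ (T W : Scheme.{u}) (h : T ⟶ Y) (q : T ⟶ W) (p : W ⟶ S) (_ : IsIntegral T) (_ : IsIntegral W) (_ : IsFinite q)
      (_ : IsProper p), (∀ w : W, IsRegularLocalRing (W.presheaf.stalk w)) ∧
      (∃ U : S.Opens, (U : Set S).Nonempty ∧ IsIso (p ∣_ U)) ∧ q (genericPoint T) = genericPoint W ∧ h ≫ g = q ≫ p := by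
  haveI : IsLocallyNoetherian Y := LocallyOfFiniteType.isLocallyNoetherian g
  haveI : CompactSpace Y := QuasiCompact.compactSpace_of_compactSpace g
  haveI : AlgebraicGeometry.IsNoetherian Y := {}
  let η := genericPoint S
  -- a closed point of the generic fibre
  haveI : Nonempty ↥(g.fiber η) := by
    obtain ⟨y, hy⟩ := g.surjective η
    exact ⟨(g.fiberHomeo η).symm ⟨y, hy⟩⟩
  obtain ⟨c, -, hc⟩ := IsClosed.exists_closed_singleton (S := (Set.univ : Set ↥(g.fiber η))) isClosed_univ Set.univ_nonempty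
  let y₀ : ↥(g.base ⁻¹' {η}) := g.fiberHomeo η c
  have hy₀ : IsClosed ({y₀} : Set ↥(g.base ⁻¹' {η})) := by
    have := (g.fiberHomeo η).isClosedMap _ hc
    rwa [Set.image_singleton] at this
  obtain ⟨Y₁, _, i, _, hgen, -, -⟩ := EGA43.ProperDvr.exists_integral_closure (X := Y) y₀.1
  let φ : Y₁ ⟶ S := i ≫ g
  have hpre : φ.base ⁻¹' {η} = {genericPoint Y₁} := by
    refine Set.Subset.antisymm (fun z hz => ?_) ?_
    · have hz' : g (i z) = η := by rw [← Scheme.Hom.comp_apply]; exact hz
      have h1 : y₀ ⤳ (⟨i z, hz'⟩ : ↥(g.base ⁻¹' {η})) :=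
        Topology.IsInducing.subtypeVal.specializes_iff.1 (hgen ▸ (genericPoint_specializes z).map i.continuous)
      have h2 : (⟨i z, hz'⟩ : ↥(g.base ⁻¹' {η})) = y₀ := h1.mem_closed hy₀ rfl
      exact i.isClosedEmbedding.injective ((congrArg Subtype.val h2).trans hgen.symm)
    · rintro _ rfl
      show φ (genericPoint Y₁) = η
      rw [Scheme.Hom.comp_apply, hgen]
      exact y₀.2
  haveI : IsProper φ := inferInstance
  obtain ⟨U₁, hη₁, hfin⟩ := exists_isFinite_morphismRestrict_of_finite_preimage_singleton (f := φ) η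
    (by rw [hpre]; exact Set.finite_singleton _)
  obtain ⟨V, hV, hflat, -⟩ := S0414.result φ
  let U : S.Opens := U₁ ⊓ V
  have hηU : η ∈ U := ⟨hη₁, ((genericPoint_spec S).mem_open_set_iff V.2).2 ⟨hV.nonempty.choose, trivial, hV.nonempty.choose_spec⟩⟩
  haveI : IsLocallyNoetherian U.toScheme := inferInstance
  haveI : IsFinite (φ ∣_ U) := restrict_mono @IsFinite φ inf_le_left hfin
  have hfl : Mor2.IsFinLocFree (φ ∣_ U) := ⟨inferInstance, restrict_mono @Flat φ inf_le_right hflat,
    Coherent.CohBC.locallyOfFinitePresentation_of_isLocallyNoetherian _⟩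
  -- flatten
  obtain ⟨𝓘, S', b, hb, hadm, hflatten⟩ :=
    FlatMorFlatten.exists_flattening_finite φ U (NoetherianSpace.isCompact _) hfl
  have hηI : η ∈ 𝓘.support.compl := fun h => Set.disjoint_left.1 hadm.2 h hηU
  haveI : IsIntegral S' := Resolve13.isIntegral_blowUp hb hηI
  haveI : IsProper b := BlowUpLib.isProper_of_isBlowUp hb hadm.1
  haveI hbU : IsIso (b ∣_ U) := ProjLib.isIso_morphismRestrict hb U hadm.2
  obtain ⟨W, μ, hW, hμ, hreg, V', hV', hμV⟩ := hres S' b ⟨U, ⟨η, hηU⟩, hbU⟩
  haveI := hW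
  haveI := hμ
  haveI := hμV
  have hbgen : b (genericPoint S') = η := map_genericPoint b U ⟨η, hηU⟩
  have hμgen : μ (genericPoint W) = genericPoint S' := map_genericPoint μ V' hV'
  -- the strict transform
  haveI : IsLocallyNoetherian S' := LocallyOfFiniteType.isLocallyNoetherian b
  haveI : IsLocallyNoetherian (pullback φ b) := LocallyOfFiniteType.isLocallyNoetherian (pullback.snd φ b)
  haveI : CompactSpace S' := QuasiCompact.compactSpace_of_compactSpace b
  haveI : CompactSpace ↥(pullback φ b) := QuasiCompact.compactSpace_of_compactSpace (pullback.snd φ b)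
  haveI : AlgebraicGeometry.IsNoetherian (pullback φ b) := {}
  let E := (𝓘.comap φ).comap (pullback.fst φ b)
  have hE : BlowUp.IsFiniteTypeIdeal E := fun A =>
    haveI : IsNoetherianRing Γ(pullback φ b, A.1) := IsLocallyNoetherian.component_noetherian A
    IsNoetherian.noetherian _
  let O := ModPair.interior E
  haveI : QuasiCompact O.ι := inferInstance
  have hq₂ := hflatten (pullback φ b) _ _ (IsPullback.of_hasPullback φ b) O.ι.ker
    (FlatMorAdm.killedByPowerNear_iff_mem_ker E hE)
  let J := O.ι.ker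
  let q₂ := J.subschemeι ≫ pullback.snd φ b
  haveI : IsFinite q₂ := hq₂.1
  obtain ⟨x', hx'1, hx'2⟩ := Scheme.Pullback.exists_preimage_pullback (f := φ) (g := b) (genericPoint Y₁) (genericPoint S')
    ((hpre.ge rfl).trans hbgen.symm)
  have hx'O : x' ∈ O := by
    show x' ∈ (E.support : Set ↥(pullback φ b))ᶜ
    simp only [E, Scheme.IdealSheafData.support_comap, Set.mem_compl_iff]
    intro h
    apply hηI
    have h' : φ (pullback.fst φ b x') ∈ 𝓘.support := h
    rw [hx'1, show φ (genericPoint Y₁) = η from hpre.ge rfl] at h'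
    exact h'
  obtain ⟨x'', hx''⟩ : x' ∈ Set.range J.subschemeι := by
    rw [Scheme.IdealSheafData.range_subschemeι, Scheme.Hom.support_ker]
    exact subset_closure ⟨⟨x', hx'O⟩, rfl⟩
  obtain ⟨z, hz1, hz2⟩ := Scheme.Pullback.exists_preimage_pullback (f := q₂) (g := μ) x'' (genericPoint W) (by
    show (J.subschemeι ≫ pullback.snd φ b) x'' = _
    rw [Scheme.Hom.comp_apply, hx'', hx'2, hμgen])
  obtain ⟨T, _, iT, _, hTgen, -, -⟩ := EGA43.ProperDvr.exists_integral_closure (X := pullback q₂ μ) z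
  refine ⟨T, W, iT ≫ pullback.fst q₂ μ ≫ J.subschemeι ≫ pullback.fst φ b ≫ i, iT ≫ pullback.snd q₂ μ, μ ≫ b,
    inferInstance, inferInstance, inferInstance, inferInstance, hreg, ?_, ?_, ?_⟩
  · let U'' : S.Opens := U ⊓ ⟨(b.base '' (V' : Set S')ᶜ)ᶜ, (b.isClosedMap _ V'.2.isClosed_compl).isOpen_compl⟩
    refine ⟨U'', ⟨η, hηU, ?_⟩, ?_⟩
    · rintro ⟨a, ha, hab⟩
      apply ha
      have h1 : (b ∣_ U) ⟨a, show b a ∈ U by rw [show b a = η from hab]; exact hηU⟩ =
          (b ∣_ U) ⟨genericPoint S', show b (genericPoint S') ∈ U by rw [hbgen]; exact hηU⟩ :=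
        Subtype.ext ((morphismRestrict_base_coe b U _).trans ((show b a = η from hab).trans
          (hbgen.symm.trans (morphismRestrict_base_coe b U ⟨genericPoint S', show b (genericPoint S') ∈ U by rw [hbgen]; exact hηU⟩).symm)))
      rw [show a = genericPoint S' from congrArg Subtype.val ((b ∣_ U).homeomorph.injective h1)]
      exact ((genericPoint_spec S').mem_open_set_iff V'.2).2 ⟨hV'.choose, trivial, hV'.choose_spec⟩
    · rw [morphismRestrict_comp]
      exact IsIso.comp_isIso' (restrict_mono (MorphismProperty.isomorphisms Scheme.{u}) μ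
        (U := V') (fun a ha => not_not.1 fun h => ha.2 ⟨a, h, rfl⟩) hμV)
        (restrict_mono (MorphismProperty.isomorphisms Scheme.{u}) b inf_le_left hbU)
  · rw [Scheme.Hom.comp_apply, hTgen, hz2]
  · simp only [Category.assoc]
    rw [show i ≫ g = φ from rfl, pullback.condition (f := φ) (g := b)]
    show iT ≫ pullback.fst q₂ μ ≫ J.subschemeι ≫ pullback.snd φ b ≫ b = _
    rw [show pullback.fst q₂ μ ≫ J.subschemeι ≫ pullback.snd φ b ≫ b = pullback.snd q₂ μ ≫ μ ≫ b by
      rw [← reassoc_of% (pullback.condition (f := q₂) (g := μ))]; simp [q₂]]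

end Groth.Agent.RatSplit13
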