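import Groth.Agent.Inters29.PrimeDiv
import Groth.Agent.Inters29.Class
import Groth.Agent.VarietyLib.NakaiCurves
import Groth.Agent.DimLib.Points
import Mathlib.Topology.NoetherianSpace

/-!
# Effective Cartier divisors supported on a connected proper closed subset of a regular surface
-/

set_option autoImplicit false
set_option linter.style.haveILetI false
set_option backward.isDefEq.respectTransparency false

universe u

open CategoryTheory AlgebraicGeometry TopologicalSpace

namespace Groth.Agent.RatSplit13

variable {Y : Scheme.{u}} [IsIntegral Y]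

/-- A non-closed, non-generic point of a surface has codimension one. -/
theorem coheight_le_one_of_not_closed (hdimY : topologicalKrullDim Y ≤ 2) {η : Y}
    (hη : ¬ IsClosed ({η} : Set Y)) : Order.coheight η ≤ 1 := by
  obtain ⟨z, hz, hne⟩ : ∃ z ∈ closure ({η} : Set Y), z ≠ η := by
    by_contra h
    push Not at h
    exact hη (closure_subset_iff_isClosed.1 fun z hz => h z hz)
  have hlt : z < η := lt_of_le_not_ge (specializes_iff_mem_closure.2 hz) fun h =>
    hne (((specializes_iff_mem_closure.2 hz).antisymm h).eq).symm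
  rw [DimLib.topologicalKrullDim_eq_krullDim] at hdimY
  refine Order.coheight_le fun p hp => ?_
  have h1 : ((p.cons z (hp ▸ hlt)).length : WithBot ℕ∞) ≤ 2 :=
    (Order.LTSeries.length_le_krullDim _).trans hdimY
  rw [RelSeries.cons_length] at h1
  have h2 : p.length + 1 ≤ 2 := by exact_mod_cast h1
  exact_mod_cast (by omega : p.length ≤ 1)

/-- An infinite connected closed proper subset is the support of an effective Cartier divisor. -/
theorem exists_effCartier_support [AlgebraicGeometry.IsNoetherian Y]
    (hdimY : topologicalKrullDim Y ≤ 2) (hreg : ∀ y : Y, IsRegularLocalRing (Y.presheaf.stalk y))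
    (F : Set Y) (hF : IsClosed F) (hgen : genericPoint Y ∉ F) (hconn : _root_.IsPreconnected F)
    (hinf : ¬ F.Finite) :
    ∃ W : Y.IdealSheafData, BlowUp.IsEffCartierIdeal W ∧ (W.support : Set Y) = F := by
  classical
  obtain ⟨S, hS, hFS⟩ := NoetherianSpace.exists_finset_irreducible (⟨F, hF⟩ : Closeds Y)
  have hFS' : ∀ y : Y, y ∈ F ↔ ∃ Z ∈ S, y ∈ Z := fun y => by
    have := congrArg (fun C : Closeds Y => (C : Set Y)) hFS
    simp only [Closeds.coe_mk, Closeds.coe_finset_sup, Finset.sup_set_eq_biUnion] at this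
    rw [this]
    simp
  choose η hη using fun Z : S => QuasiSober.sober (hS Z) Z.1.isClosed
  have hcl : ∀ Z : S, closure ({η Z} : Set Y) = (Z.1 : Set Y) := fun Z => hη Z
  have hmem : ∀ Z : S, η Z ∈ F := fun Z => (hFS' _).2 ⟨Z.1, Z.2, (hcl Z).subset (subset_closure rfl)⟩
  let G : Finset S := Finset.univ.filter fun Z => ¬ IsClosed ({η Z} : Set Y)
  let T : Set Y := ⋃ Z ∈ G, closure ({η Z} : Set Y)
  let G' : Finset S := Finset.univ.filter fun Z : S => IsClosed ({η Z} : Set Y)
  let R : Set Y := ⋃ Z ∈ G'.filter (fun Z => η Z ∉ T), ({η Z} : Set Y)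
  have hTF : T ⊆ F := Set.iUnion₂_subset fun Z _ => (closure_minimal (Set.singleton_subset_iff.2 (hmem Z)) hF)
  have hRc : IsClosed R := isClosed_biUnion_finset fun Z hZ => (Finset.mem_filter.1 (Finset.mem_filter.1 hZ).1).2
  have hTc : IsClosed T := isClosed_biUnion_finset fun Z _ => isClosed_closure
  have hcov : F ⊆ T ∪ R := fun y hy => by
    obtain ⟨Z, hZ, hyZ⟩ := (hFS' y).1 hy
    let Z' : S := ⟨Z, hZ⟩
    by_cases hc : IsClosed ({η Z'} : Set Y)
    · have : y = η Z' := by
        have h1 := (hcl Z').ge hyZ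
        rwa [hc.closure_eq] at h1
      by_cases hT : η Z' ∈ T
      · exact Or.inl (this ▸ hT)
      · exact Or.inr (Set.mem_biUnion (Finset.mem_filter.2 ⟨Finset.mem_filter.2 ⟨Finset.mem_univ _, hc⟩, hT⟩) this)
    · exact Or.inl (Set.mem_biUnion (x := Z') (Finset.mem_filter.2 ⟨Finset.mem_univ _, hc⟩) ((hcl Z').ge hyZ))
  have hRfin : R.Finite := Set.Finite.biUnion (Finset.finite_toSet _) fun _ _ => Set.finite_singleton _
  have hTR : Disjoint T R := Set.disjoint_left.2 fun y hyT hyR => by
    obtain ⟨Z, hZ, rfl⟩ := Set.mem_iUnion₂.1 hyR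
    exact (Finset.mem_filter.1 hZ).2 hyT
  have hFT : F ⊆ T := by
    intro y hy
    by_contra hyT
    have hFTne : (F ∩ T).Nonempty := by
      by_contra h
      exact hinf (hRfin.subset fun z hz => (hcov hz).resolve_left fun hzT => h ⟨z, hz, hzT⟩)
    obtain ⟨z, -, hzT, hzR⟩ := (isPreconnected_closed_iff.1 hconn) T R hTc hRc hcov hFTne
      ⟨y, hy, (hcov hy).resolve_left hyT⟩
    exact Set.disjoint_left.1 hTR hzT hzR
  let I : S → Y.IdealSheafData := fun Z => if Z ∈ G then AssSch12.clI (η Z) else 1
  have hI : ∀ Z, BlowUp.IsEffCartierIdeal (I Z) := fun Z => by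
    by_cases hZ : Z ∈ G
    · simp only [I, if_pos hZ]
      haveI : IsIntegral (AssSch12.clI (η Z)).subscheme := VarietyLib.isIntegral_clI (η Z)
      have hg : SDiv28.CartierPart.gen (AssSch12.clI (η Z)) = η Z :=
        (SDiv28.CartierPart.isGenericPoint_gen (AssSch12.clI (η Z))).eq
          ((VarietyLib.support_clI (η Z)).symm ▸ isGenericPoint_closure)
      refine Inters29.isEffCartier_of_coheight_one hreg _ ?_ ?_
      · rw [hg]; exact coheight_le_one_of_not_closed hdimY (Finset.mem_filter.1 hZ).2
      · rw [hg]; exact fun h => hgen (h ▸ hmem Z)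
    · simp only [I, if_neg hZ]; exact Inters29.isEffCartier_one
  refine ⟨∏ Z ∈ G, I Z, Inters29.isEffCartier_prod G I hI, ?_⟩
  have hsupp : ∀ G' : Finset S, G' ⊆ G → ((∏ Z ∈ G', I Z).support : Set Y) = ⋃ Z ∈ G', closure ({η Z} : Set Y) := by
    intro G'
    induction G' using Finset.induction_on with
    | empty =>
      intro _
      simp [Finset.prod_empty]
    | insert a s ha ih =>
      intro hsub
      rw [Finset.prod_insert ha, Scheme.IdealSheafData.support_mul, Closeds.coe_sup,
        ih ((Finset.subset_insert a s).trans hsub), Finset.set_biUnion_insert]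
      congr 1
      simp only [I, if_pos (hsub (Finset.mem_insert_self a s))]
      exact VarietyLib.support_clI (η a)
  rw [hsupp G subset_rfl]
  exact Set.Subset.antisymm hTF hFT

end Groth.Agent.RatSplit13
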