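import Groth.Agent.Clifford24.Lipman.GG
import Groth.Agent.CurveRR24.Sky
import Groth.Agent.AmpleLib.FTIdeal
import Groth.Agent.AmpleLib.Power
import Groth.Agent.Coherent.FormalFunctions
import Groth.Agent.H8Lim.FibreDimVanish
import Groth.Agent.FlatCx12.RelPCOps

/-!
# Killing `H¹` by thickenings
-/

set_option autoImplicit false
set_option linter.style.haveILetI false
set_option backward.isDefEq.respectTransparency false
set_option maxHeartbeats 1000000

universe u

open CategoryTheory CategoryTheory.Limits AlgebraicGeometry Opposite TopologicalSpace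
open Groth.Agent.Coherent

namespace Groth.Agent.RatSplit13

section Kill

variable {A : Type u} [CommRing A] {V : Scheme.{u}} [V.Over (Spec (CommRingCat.of A))]

attribute [local instance 20000] hhGrp hhMod

/-- Elements killing `H¹(O)` can be killed on a quotient of `O` without changing `H¹`. -/
theorem exists_quotient_H1_injective (hv : Lipman24.NoH2 V)
    (l : List A) (hl : ∀ a ∈ l, ∀ x : HA (baseHom A V) (Coh.structureModule V) (⊤ : V.Opens) 1, a • x = 0) :
    ∃ (Q : V.Modules) (q : Coh.structureModule V ⟶ Q), Epi q ∧ Coh.IsQCoh Q ∧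
      (∀ a ∈ l, q ≫ Formal.smulMod A Q a = 0) ∧
      Function.Injective (postA (baseHom A V) q (⊤ : V.Opens) 1) := by
  induction l with
  | nil => exact ⟨_, 𝟙 _, inferInstance, isQCoh_structureModule, by simp, fun x y h => by simpa [postA_id] using h⟩
  | cons a l ih =>
    obtain ⟨Q, q, hq, hQ, hkill, hinj⟩ := ih fun b hb => hl b (List.mem_cons_of_mem _ hb)
    haveI := isQCoh_structureModule (X := V)
    haveI := hq
    haveI := hQ
    let μ := Formal.smulMod A Q a
    let π := cokernel.π μ
    haveI hQ' : Coh.IsQCoh (cokernel μ) := isQCoh_cokernel μ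
    have hcomm : ∀ b : A, π ≫ Formal.smulMod A (cokernel μ) b = Formal.smulMod A Q b ≫ π := fun b =>
      (Coherent.smulModΓ_comm (Coh.toGlobal (V ↘ Spec (CommRingCat.of A)) b) π)
    refine ⟨cokernel μ, q ≫ π, epi_comp _ _, hQ', ?_, ?_⟩
    · intro b hb
      rw [Category.assoc, hcomm]
      rcases List.mem_cons.1 hb with rfl | hb
      · rw [cokernel.condition, comp_zero]
      · rw [← Category.assoc, hkill b hb, zero_comp]
    · have hsurjq : Function.Surjective (postA (baseHom A V) q (⊤ : V.Opens) 1) := by
        haveI : Coh.IsQCoh (kernel q) := isQCoh_kernel q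
        let S : ShortComplex V.Modules := ShortComplex.mk (kernel.ι q) q (kernel.condition q)
        have hS : S.ShortExact := { exact := ShortComplex.exact_kernel q }
        have h2 : Subsingleton (HA (baseHom A V) (kernel q) (⊤ : V.Opens) 2) :=
          (HHA (A := A) (kernel q) 2).symm.toEquiv.subsingleton_congr.2 (hv _ inferInstance)
        exact fun x => (exact_postA_deltaA (baseHom A V) hS ⊤ 1 x).1 (h2.elim _ _)
      have hinjπ : Function.Injective (postA (baseHom A V) π (⊤ : V.Opens) 1) := by
        haveI : Coh.IsQCoh (kernel π) := isQCoh_kernel π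
        let S : ShortComplex V.Modules := ShortComplex.mk (kernel.ι π) π (kernel.condition π)
        have hS : S.ShortExact := { exact := ShortComplex.exact_kernel π }
        let p : Q ⟶ kernel π := kernel.lift π μ (cokernel.condition μ)
        haveI : Epi p := (ShortComplex.exact_of_g_is_cokernel (ShortComplex.mk μ π (cokernel.condition μ))
          (cokernelIsCokernel μ)).epi_kernelLift
        haveI : Coh.IsQCoh (kernel p) := isQCoh_kernel p
        let T : ShortComplex V.Modules := ShortComplex.mk (kernel.ι p) p (kernel.condition p)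
        have hT : T.ShortExact := { exact := ShortComplex.exact_kernel p }
        have h2 : Subsingleton (HA (baseHom A V) (kernel p) (⊤ : V.Opens) 2) :=
          (HHA (A := A) (kernel p) 2).symm.toEquiv.subsingleton_congr.2 (hv _ inferInstance)
        refine (injective_iff_map_eq_zero _).2 fun x hx => ?_
        obtain ⟨z, hz⟩ := (exact_postA (baseHom A V) hS ⊤ 1 x).1 hx
        obtain ⟨y, hy⟩ := (exact_postA_deltaA (baseHom A V) hT ⊤ 1 z).1 (h2.elim _ _)
        obtain ⟨w, rfl⟩ := hsurjq y
        rw [← hz, ← hy, ← postA_comp, kernel.lift_ι]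
        refine (postA_smulMod (A := A) Q a 1 _).trans ?_
        rw [← map_smul, hl a List.mem_cons_self w, map_zero]
      intro x y h
      rw [postA_comp, postA_comp] at h
      exact hinj (hinjπ h)

/-- A thickening inside the ideal generated by elements killing a quotient of `O` maps onto that quotient. -/
theorem exists_epi_quotMod (W : V.IdealSheafData) (s : Set A) {Q : V.Modules} (q : Coh.structureModule V ⟶ Q) [Epi q]
    (hq : ∀ a ∈ s, q ≫ Formal.smulMod A Q a = 0)
    (hW : ∀ U : V.affineOpens, W.ideal U ≤ Ideal.span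
      ((fun a => V.presheaf.map (homOfLE (le_top (a := U.1))).op (baseHom A V a)) '' s)) :
    ∃ π : ClSub.quotMod W ⟶ Q, Epi π := by
  have h0 : ClSub.idealModι W ≫ q = 0 := by
    refine Scheme.Modules.hom_ext _ _ fun O => ?_
    ext k
    refine AmpleLib.sec_ext _ _ _ fun y hy => ?_
    obtain ⟨U, hU, hyU, hUO⟩ := exists_isAffineOpen_mem_and_subset (x := y) (U := O) hy
    refine ⟨U, hUO, hyU, ?_⟩
    show resM Q hUO ((ClSub.idealModι W ≫ q).app O k) = resM Q hUO 0
    rw [map_zero, ← app_resM]
    let k' : Γ(ClSub.idealMod W, U) := resM _ hUO k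
    let g₀ : Γ(V, U) := (ClSub.idealModι W).app U k'
    have hmem : g₀ ∈ W.ideal ⟨U, hU⟩ := by
      rw [← W.ker_subschemeι_app ⟨U, hU⟩, RingHom.mem_ker]
      exact (AmpleLib.mem_range_idealModι (I := W) U _).1 ⟨k', rfl⟩
    show q.app U ((ClSub.idealModι W).app U k') = 0
    have key : ∀ g : Γ(V, U), g ∈ Ideal.span ((fun a => V.presheaf.map (homOfLE (le_top (a := U))).op (baseHom A V a)) '' s) →
        q.app U (show Γ(Coh.structureModule V, U) from (g : Γ(V, U))) = 0 := by
      intro g hg
      refine Submodule.span_induction ?_ (map_zero _) (fun a b _ _ ha hb => ?_) (fun c a _ ha => ?_) hg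
      · rintro _ ⟨a, ha, rfl⟩
        have h1 := congr(($(hq a ha)).app U (1 : Γ(V, U)))
        have h2 : (q ≫ Formal.smulMod A Q a).app U (1 : Γ(V, U)) =
            q.app U (V.presheaf.map (homOfLE (le_top (a := U))).op (baseHom A V a)) := by
          show (Formal.smulMod A Q a).app U (q.app U (1 : Γ(V, U))) = _
          refine (smulMod_app (A := A) Q a U _).trans ?_
          refine (Scheme.Modules.Hom.app_smul q _ (1 : Γ(V, U))).symm.trans ?_
          exact congrArg (q.app U) (mul_one (M := Γ(V, U)) _)
        exact h2.symm.trans h1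
      · exact (map_add (q.app U).hom a b).trans (by erw [ha, hb, add_zero])
      · exact (Scheme.Modules.Hom.app_smul q c (show Γ(Coh.structureModule V, U) from a)).trans
          (by erw [ha, smul_zero])
    exact key _ (hW ⟨U, hU⟩ hmem)
  have hS := CurveRR24.shortExact_ideal W
  haveI := hS.epi_g
  refine ⟨hS.gIsCokernel.desc (CokernelCofork.ofπ q h0), ?_⟩
  have e : ClSub.toSubscheme W ≫ hS.gIsCokernel.desc (CokernelCofork.ofπ q h0) = q :=
    Cofork.IsColimit.π_desc hS.gIsCokernel
  exact epi_of_epi_fac e

/-- `H¹(O) = 0` if a thickening without `H¹` lies in an ideal killing `H¹(O)`. -/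
theorem subsingleton_H1_of_thickening (hv : Lipman24.NoH2 V) (W : V.IdealSheafData) (l : List A)
    (hl : ∀ a ∈ l, ∀ x : HA (baseHom A V) (Coh.structureModule V) (⊤ : V.Opens) 1, a • x = 0)
    (hW : ∀ U : V.affineOpens, W.ideal U ≤ Ideal.span
      ((fun a => V.presheaf.map (homOfLE (le_top (a := U.1))).op (baseHom A V a)) '' {a | a ∈ l}))
    (hq : Coh.IsQCoh (ClSub.quotMod W))
    (h : Subsingleton (Coh.HH V (ClSub.quotMod W) 1)) :
    Subsingleton (Coh.HH V (Coh.structureModule V) 1) := by
  obtain ⟨Q, q, hepi, hQ, hkill, hinj⟩ := exists_quotient_H1_injective hv l hl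
  obtain ⟨π, hπ⟩ := exists_epi_quotMod W {a | a ∈ l} q hkill hW
  have h1 : Subsingleton (HA (baseHom A V) Q (⊤ : V.Opens) 1) :=
    (HHA (A := A) Q 1).symm.toEquiv.subsingleton_congr.2 (Lipman24.subsingleton_H1_of_epi hv hq hQ π h)
  have h2 : Subsingleton (HA (baseHom A V) (Coh.structureModule V) (⊤ : V.Opens) 1) :=
    ⟨fun a b => hinj (h1.elim _ _)⟩
  exact (HHA (A := A) (Coh.structureModule V) 1).toEquiv.subsingleton

end Kill

section Transfer

variable {Y : Scheme.{u}}

theorem subsingleton_HH_of_modIso {M N : Y.Modules} (e : M ≅ N) (q : ℕ)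
    (h : Subsingleton (Coh.HH Y N q)) : Subsingleton (Coh.HH Y M q) := by
  haveI : Subsingleton (Sheaf.H' (Coh.toAb N) q (⊤ : Y.Opens)) := (HHTopEquiv N q).symm.toEquiv.subsingleton
  haveI := Coherent.subsingleton_H'_of_iso e.symm q (⊤ : Y.Opens) inferInstance
  exact (HHTopEquiv M q).toEquiv.subsingleton

theorem subsingleton_HH_structure_of_iso {Z Z' : Scheme.{u}} (e : Z' ⟶ Z) [IsIso e] (q : ℕ) :
    Subsingleton (Coh.HH Z' (Coh.structureModule Z') q) ↔ Subsingleton (Coh.HH Z (Coh.structureModule Z) q) := by
  haveI : IsIso (ClSub.unitToPush e) := Scheme.Modules.Hom.isIso_iff_isIso_app.mpr fun U =>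
    (ConcreteCategory.isIso_iff_bijective _).2 (ConcreteCategory.bijective_of_isIso (e.app U))
  haveI := isQCoh_structureModule (X := Z')
  refine (HHAffinePushEquiv e (Coh.structureModule Z') q).toEquiv.subsingleton_congr.trans ?_
  exact ⟨fun h => subsingleton_HH_of_modIso (asIso (ClSub.unitToPush e)) q h,
    fun h => subsingleton_HH_of_modIso (asIso (ClSub.unitToPush e)).symm q h⟩

theorem subsingleton_HH_quotMod_iff_subscheme (W : Y.IdealSheafData) (q : ℕ) :
    Subsingleton (Coh.HH Y (ClSub.quotMod W) q) ↔
      Subsingleton (Coh.HH W.subscheme (Coh.structureModule W.subscheme) q) :=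
  haveI := isQCoh_structureModule (X := W.subscheme)
  (HHAffinePushEquiv W.subschemeι (Coh.structureModule W.subscheme) q).toEquiv.subsingleton_congr.symm

/-- The cohomology of a closed subscheme inside an open does not see the rest. -/
theorem subsingleton_HH_quotMod_comap_iff (W : Y.IdealSheafData) (V : Y.Opens)
    (hW : (W.support : Set Y) ⊆ V) (q : ℕ) :
    Subsingleton (Coh.HH V.toScheme (ClSub.quotMod (W.comap V.ι)) q) ↔
      Subsingleton (Coh.HH Y (ClSub.quotMod W) q) := by
  rw [subsingleton_HH_quotMod_iff_subscheme, subsingleton_HH_quotMod_iff_subscheme]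
  haveI : Surjective (pullback.snd V.ι W.subschemeι) := ⟨fun w => by
    obtain ⟨z, -, hz⟩ := Scheme.Pullback.exists_preimage_pullback (f := V.ι) (g := W.subschemeι)
      ⟨W.subschemeι w, hW (W.range_subschemeι.subset ⟨w, rfl⟩)⟩ w rfl
    exact ⟨z, hz⟩⟩
  haveI : IsIso (pullback.snd V.ι W.subschemeι) := (isIso_iff_isOpenImmersion_and_surjective _).2 ⟨inferInstance, inferInstance⟩
  exact subsingleton_HH_structure_of_iso ((W.comapIso V.ι).hom ≫ pullback.snd _ _) q

end Transfer

end Groth.Agent.RatSplit13
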