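import Groth.Agent.RatSplit13.H1Kill
import Groth.Agent.Coherent.RpushStalk
import Groth.Agent.PicLib.PicMonoid

/-!
# Elements killing `H¹` away from their vanishing locus are nilpotent on `H¹`
-/

set_option autoImplicit false
set_option linter.style.haveILetI false
set_option backward.isDefEq.respectTransparency false

universe u

open CategoryTheory CategoryTheory.Limits AlgebraicGeometry Opposite TopologicalSpace
open Groth.Agent.Coherent

namespace Groth.Agent.RatSplit13

attribute [local instance 20000] hhGrp hhMod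

variable {X Y : Scheme.{u}} (f : Y ⟶ X) [QuasiCompact f] [QuasiSeparated f]

/-- `a` acts nilpotently on `H¹` over `U` if `H¹` vanishes over `D(a)`. -/
theorem exists_pow_smul_H1_eq_zero {U : X.Opens} (hU : IsAffineOpen U) (a : Γ(X, U))
    (h : IsAffineOpen (f ⁻¹ᵁ X.basicOpen a)) :
    letI : (f ⁻¹ᵁ U).toScheme.Over (Spec (CommRingCat.of Γ(X, U))) := ⟨toSpecSections f hU⟩
    ∀ x : HA (baseHom Γ(X, U) (f ⁻¹ᵁ U).toScheme) (Coh.structureModule _) (⊤ : (f ⁻¹ᵁ U).toScheme.Opens) 1,
      ∃ n : ℕ, a ^ n • x = 0 := by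
  letI : (f ⁻¹ᵁ U).toScheme.Over (Spec (CommRingCat.of Γ(X, U))) := ⟨toSpecSections f hU⟩
  haveI := hasInjectiveResolutions_modules Y
  haveI := isQCoh_structureModule (X := Y)
  let V := f ⁻¹ᵁ U
  let O := Coh.structureModule Y
  let N := O.restrict V.ι
  let eN : N ≅ Coh.structureModule V.toScheme :=
    (Scheme.Modules.restrictFunctorIsoPullback V.ι).app O ≪≫ PicLoc.pullbackStructureIso V.ι
  let R := (Coh.Rpush f 1).obj O
  haveI : Coh.IsQCoh R := isQCoh_rpush f O 1
  let φ := baseHom Γ(X, U) V.toScheme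
  intro x
  let W := X.basicOpen a
  have hRW : Subsingleton Γ(R, W) := by
    obtain ⟨g'⟩ := exists_rpush_sections_equiv (f := f) (hU.basicOpen a) O 1
    haveI : IsAffine (f ⁻¹ᵁ W).toScheme := h
    haveI : Subsingleton (Coh.HH (f ⁻¹ᵁ W).toScheme (O.restrict (f ⁻¹ᵁ W).ι) 1) :=
      subsingleton_HH_of_isAffine _ 1 one_pos
    exact g'.symm.toEquiv.subsingleton
  obtain ⟨g⟩ := exists_rpush_sections_equiv (f := f) hU O 1
  let E := HHA (A := Γ(X, U)) N 1
  let z : HA φ N (⊤ : V.toScheme.Opens) 1 := postA φ eN.inv ⊤ 1 x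
  obtain ⟨n, hn⟩ := (localizesOn_of_isQCoh R hU).exists_pow_smul_eq_zero a (g (E.symm z)) (hRW.elim _ _)
  refine ⟨n, ?_⟩
  have h0 : a ^ n • E.symm z = 0 := g.injective ((g.map_smul _ _).trans (hn.trans g.map_zero.symm))
  have h1 : a ^ n • z = 0 := E.symm.injective ((E.symm.map_smul _ _).trans (h0.trans E.symm.map_zero.symm))
  have hx : postA φ eN.hom ⊤ 1 z = x := by
    rw [← postA_comp, Iso.inv_hom_id, postA_id]
  rw [← hx, ← map_smul, h1, map_zero]

end Groth.Agent.RatSplit13
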