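import Groth.Agent.Resolve13.LocalBase
import Groth.Agent.Resolve13.FiniteTrace
import Groth.Agent.Coherent.BirationalFibre
import Groth.Agent.Coherent.RpushStalk
import Groth.Agent.ExcC13.SteinContract
import Groth.Agent.DQCoh.TildePush
import Groth.Agent.Models7.PointBlowUpIso
import Groth.Agent.S3244
import Groth.Agent.RatSplit13.Cover

/-! Rational singularities give acyclic regular modifications; finite covers of normal schemes split. -/

set_option autoImplicit false
set_option linter.style.haveILetI false
set_option backward.isDefEq.respectTransparency.types false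
set_option maxHeartbeats 1000000

universe u

open CategoryTheory CategoryTheory.Limits AlgebraicGeometry TopologicalSpace

namespace Groth.Agent.RatSplit13

theorem isZero_of_subsingleton_stalks {X : Scheme.{u}} (M : X.Modules)
    (h : ∀ x, Subsingleton (M.presheaf.stalk x)) : IsZero M := by
  refine (IsZero.iff_id_eq_zero M).2 (Scheme.Modules.hom_ext _ _ fun U => ?_)
  ext s
  exact TopCat.Presheaf.section_ext ⟨M.presheaf, M.isSheaf⟩ U _ _ fun x hx => (h x).elim _ _

/-- A regular modification is acyclic for the structure sheaf when the singularities are rational. -/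
theorem acyclic_modification {S W : Scheme.{u}} [IsIntegral S] [AlgebraicGeometry.IsNoetherian S] [IsIntegral W]
    (hnor : Pi1.IsNormalScheme S)
    (hrat : ∀ (s : S) (X : Scheme.{u}) (f : X ⟶ Spec (S.presheaf.stalk s)) [IsProper f] [IsIntegral X],
      (∀ x : X, IsRegularLocalRing (X.presheaf.stalk x)) →
      (∃ U : (Spec (S.presheaf.stalk s)).Opens, (U : Set (Spec (S.presheaf.stalk s))).Nonempty ∧ IsIso (f ∣_ U)) →
      ∀ i : ℕ, 0 < i → Subsingleton (Coh.HH X (Coh.structureModule X) i))
    (p : W ⟶ S) [IsProper p] (hreg : ∀ w : W, IsRegularLocalRing (W.presheaf.stalk w))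
    (U : S.Opens) (hU : (U : Set S).Nonempty) [IsIso (p ∣_ U)] :
    IsIso (ClSub.unitToPush p) ∧ ∀ i : ℕ, 0 < i → IsZero ((Coh.Rpush p i).obj (Coh.structureModule W)) := by
  have hgen := map_genericPoint p U hU
  have hηU : genericPoint S ∈ U :=
    ((genericPoint_spec S).mem_open_set_iff U.2).2 ⟨hU.choose, trivial, hU.choose_spec⟩
  have hgU : genericPoint W ∈ p ⁻¹ᵁ U := by
    show p (genericPoint W) ∈ U
    rw [hgen]; exact hηU
  have hbir : IsIso (p.stalkMap (genericPoint W)) := by
    have hi : IsIso ((p ∣_ U).stalkMap ⟨genericPoint W, hgU⟩) := inferInstance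
    exact ((MorphismProperty.isomorphisms CommRingCat).arrow_mk_iso_iff
      (morphismRestrictStalkMap p U ⟨genericPoint W, hgU⟩)).1 hi
  refine ⟨ExcC13.isIso_unitToPush_of_app p (Coherent.isIso_app_of_birational p hnor hgen hbir),
    fun i hi => isZero_of_subsingleton_stalks _ fun s => ?_⟩
  haveI := Coherent.hasInjectiveResolutions_modules W
  haveI : Coh.IsQCoh (Coh.structureModule W) := Coherent.isQCoh_structureModule
  obtain ⟨hint, -⟩ := Resolve13.LocalBase.isIntegral p s hgen
  haveI := hint
  have hreg₁ : ∀ x, IsRegularLocalRing ((pullback p (S.fromSpecStalk s)).presheaf.stalk x) := fun x => by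
    have := Props12.isIso_stalkMap_fst p s x
    haveI := hreg (pullback.fst p (S.fromSpecStalk s) x)
    exact IsRegularLocalRing.of_ringEquiv
      (asIso ((pullback.fst p (S.fromSpecStalk s)).stalkMap x)).commRingCatIsoToRingEquiv
  obtain ⟨t, ht⟩ : genericPoint S ∈ Set.range (S.fromSpecStalk s) := by
    rw [Scheme.range_fromSpecStalk]; exact genericPoint_specializes s
  have hHH := hrat s _ (pullback.snd p (S.fromSpecStalk s)) hreg₁
    ⟨S.fromSpecStalk s ⁻¹ᵁ U, ⟨t, show S.fromSpecStalk s t ∈ U by rw [ht]; exact hηU⟩,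
      Resolve13.LocalBase.exists_isIso_restrict p s U⟩ i hi
  letI : (pullback p (S.fromSpecStalk s)).Over (Spec (CommRingCat.of (S.presheaf.stalk s))) :=
    ⟨pullback.snd p (S.fromSpecStalk s)⟩
  obtain ⟨e⟩ := Coherent.nonempty_stalk_rpush_equiv p (Coh.structureModule W) i s
    (pullback p (S.fromSpecStalk s)) (pullback.fst p (S.fromSpecStalk s)) (IsPullback.of_hasPullback p _)
  obtain ⟨j⟩ := CAlgH.PicPunct.nonempty_pullback_unit (pullback.fst p (S.fromSpecStalk s))
  haveI := FlatMorStrat.subsingleton_HH_of_iso j.symm i hHH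
  exact e.toEquiv.subsingleton

/-- A finite cover of a normal scheme of characteristic zero splits. -/
theorem exists_retraction_unit {T W : Scheme.{u}} [IsIntegral T] [IsIntegral W] (q : T ⟶ W) [IsFinite q]
    (e : q (genericPoint T) = genericPoint W) (hW : Pi1.IsNormalScheme W) (hQ : ∀ w : W, CharZero (W.residueField w)) :
    ∃ τ : (Scheme.Modules.pushforward q).obj (Coh.structureModule T) ⟶ Coh.structureModule W,
      ClSub.unitToPush q ≫ τ = 𝟙 _ := by
  letI := (Hyper24.ffMap q e).toAlgebra
  obtain ⟨τ, hτ⟩ := Resolve13.FiniteTrace.exists_trace q e hW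
  haveI := Hyper24.finiteDimensional_ffMap q e
  set n := Module.finrank W.functionField T.functionField
  have hn : 0 < n := Module.finrank_pos
  have hu : IsUnit (n : Γ(W, ⊤)) := S3244.isUnit_natCast W n fun w => by
    haveI := hQ w
    exact_mod_cast hn.ne'
  haveI : IsIso (n • 𝟙 (Coh.structureModule W)) := by
    refine Scheme.Modules.Hom.isIso_iff_isIso_app.2 fun V => ?_
    rw [ConcreteCategory.isIso_iff_bijective]
    have h2 : ∀ (k : ℕ) (s : Γ(W, V)), (k • 𝟙 (Coh.structureModule W)).app V s = (k : Γ(W, V)) * s := fun k s => by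
      induction k with
      | zero => rw [zero_smul, Nat.cast_zero, zero_mul]; rfl
      | succ k ih => rw [add_smul, one_smul, Nat.cast_succ, add_mul, one_mul, ← ih]; rfl
    have hV : IsUnit (n : Γ(W, V)) := by
      have := hu.map (W.presheaf.map (homOfLE (le_top : V ≤ ⊤)).op).hom
      rwa [map_natCast] at this
    show Function.Bijective fun s : Γ(W, V) => (n • 𝟙 (Coh.structureModule W)).app V s
    rw [show (fun s : Γ(W, V) => (n • 𝟙 (Coh.structureModule W)).app V s) = fun s => (n : Γ(W, V)) * s from
      funext (h2 n)]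
    exact hV.unit.mulLeft_bijective
  refine ⟨τ ≫ inv (n • 𝟙 (Coh.structureModule W)), ?_⟩
  rw [← Category.assoc, hτ, IsIso.hom_inv_id]

/-- A scheme over a scheme of equal characteristic zero has equal characteristic zero. -/
theorem charZero_residueField {W S : Scheme.{u}} (p : W ⟶ S) (hQ : ∀ s : S, CharZero (S.residueField s)) (w : W) :
    CharZero (W.residueField w) := by
  haveI := hQ (p w)
  exact charZero_of_injective_ringHom (p.residueFieldMap w).hom.injective

end Groth.Agent.RatSplit13
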