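import Groth.Prelude.Def_DCoh2
import Groth.Prelude.Def_ClSub2
import Groth.Agent.DQCoh.AcyclicPush
import Groth.Agent.CommAlg4.UnitSingle
import Groth.Agent.DCat.PullPush
import Groth.Agent.ExtSS.RelExt
import Groth.Agent.Coherent.ModExt

/-! A retraction of `O_S ⟶ Rg_* O_Y` from a finite cover of an acyclic modification. -/

set_option autoImplicit false
set_option linter.style.haveILetI false
set_option backward.isDefEq.respectTransparency false
set_option backward.defeqAttrib.useBackward true
set_option maxHeartbeats 1000000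
set_option synthInstance.maxHeartbeats 100000

universe u

open CategoryTheory CategoryTheory.Limits AlgebraicGeometry

attribute [local instance] HasDerivedCategory.standard

namespace Groth.Agent.RatSplit13

theorem unit_comp {X Y Z : Scheme.{u}} (f : X ⟶ Y) (g : Y ⟶ Z) :
    ClSub.unitToPush g ≫ (Scheme.Modules.pushforward g).map (ClSub.unitToPush f) ≫
      (Scheme.Modules.pushforwardComp f g).hom.app (Coh.structureModule X) = ClSub.unitToPush (f ≫ g) := by
  refine Scheme.Modules.hom_ext _ _ ?_
  intro U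
  rfl

theorem unit_congr {X Y : Scheme.{u}} {f g : X ⟶ Y} (e : f = g) :
    ClSub.unitToPush f ≫ (Scheme.Modules.pushforwardCongr e).hom.app (Coh.structureModule X) = ClSub.unitToPush g := by
  subst e
  refine Scheme.Modules.hom_ext _ _ ?_
  intro U
  ext x
  simp [Scheme.Modules.pushforwardCongr]
  rfl

theorem units_eq {T W Y S : Scheme.{u}} (h : T ⟶ Y) (g : Y ⟶ S) (q : T ⟶ W) (p : W ⟶ S) (e : h ≫ g = q ≫ p) :
    ClSub.unitToPush g ≫ (Scheme.Modules.pushforward g).map (ClSub.unitToPush h) ≫
      (Scheme.Modules.pushforwardComp h g ≪≫ Scheme.Modules.pushforwardCongr e ≪≫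
        (Scheme.Modules.pushforwardComp q p).symm).hom.app (Coh.structureModule T) =
      ClSub.unitToPush p ≫ (Scheme.Modules.pushforward p).map (ClSub.unitToPush q) := by
  simp only [Iso.trans_hom, Iso.symm_hom, NatTrans.comp_app]
  rw [reassoc_of% (unit_comp h g), reassoc_of% (unit_congr e), ← unit_comp q p]
  simp

theorem chase {T' Y' W' S' : Type*} [Category T'] [Category Y'] [Category W'] [Category S'] {H : T' ⥤ Y'}
    {G : Y' ⥤ S'} {Q : T' ⥤ W'} {P : W' ⥤ S'} (N : H ⋙ G ≅ Q ⋙ P) {OT JT T0 : T'} {OY Y0 : Y'} {OW W0 : W'} {OS S0 : S'}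
    (ug : OS ⟶ G.obj OY) (uh : OY ⟶ H.obj OT) (up : OS ⟶ P.obj OW) (uq : OW ⟶ Q.obj OT)
    (hu : ug ≫ G.map uh ≫ N.hom.app OT = up ≫ P.map uq) (sS : S0 ⟶ OS) (sY : Y0 ≅ OY) (sW : W0 ≅ OW) (sT : OT ⟶ T0)
    (ι : T0 ⟶ JT) :
    (sS ≫ ug ≫ G.map sY.inv) ≫ G.map ((sY.hom ≫ uh ≫ H.map sT) ≫ H.map ι) ≫ N.hom.app JT =
      (sS ≫ up ≫ P.map sW.inv) ≫ P.map ((sW.hom ≫ uq ≫ Q.map sT) ≫ Q.map ι) := by
  have n1 : G.map (H.map sT) ≫ G.map (H.map ι) ≫ N.hom.app JT = N.hom.app OT ≫ P.map (Q.map sT) ≫ P.map (Q.map ι) := by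
    have := N.hom.naturality (sT ≫ ι)
    simpa using this
  simp only [Functor.map_comp, Category.assoc, Iso.map_inv_hom_id_assoc]
  rw [n1, reassoc_of% hu]

theorem acy_injective_push {T Y S : Scheme.{u}} (h : T ⟶ Y) (g : Y ⟶ S) [HasInjectiveResolutions Y.Modules]
    (I : T.Modules) [Injective I] : DCat.Acyclic.Acy (Scheme.Modules.pushforward g) ((Scheme.Modules.pushforward h).obj I) := by
  intro i hi
  obtain ⟨k, rfl⟩ : ∃ k, i = k + 1 := ⟨i - 1, by omega⟩
  haveI := Coherent.isFlasque_toAb_of_injective I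
  exact ExtSS.isZero_rpush_push_flasque h g I k

section

variable {T W Y S : Scheme.{u}} (h : T ⟶ Y) (g : Y ⟶ S) (q : T ⟶ W) (p : W ⟶ S)

/-- The complex with `O_X` in degree zero. -/
noncomputable abbrev SO (X : Scheme.{u}) : CochainComplex X.Modules ℤ :=
  (HomologicalComplex.single X.Modules (ComplexShape.up ℤ) 0).obj (Coh.structureModule X)

/-- `O_S ⟶ f_* O_X` as a map of complexes in degree zero. -/
noncomputable def alpha {X Z : Scheme.{u}} (f : X ⟶ Z) :
    SO Z ⟶ ((Scheme.Modules.pushforward f).mapHomologicalComplex (ComplexShape.up ℤ)).obj (SO X) :=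
  (HomologicalComplex.single Z.Modules (ComplexShape.up ℤ) 0).map (ClSub.unitToPush f) ≫
    (HomologicalComplex.singleMapHomologicalComplex (Scheme.Modules.pushforward f) (ComplexShape.up ℤ) 0).inv.app (Coh.structureModule X)

theorem alpha_f {X Z : Scheme.{u}} (f : X ⟶ Z) :
    (alpha f).f 0 = (HomologicalComplex.singleObjXSelf (ComplexShape.up ℤ) 0 _).hom ≫ ClSub.unitToPush f ≫
      (Scheme.Modules.pushforward f).map (HomologicalComplex.singleObjXSelf (ComplexShape.up ℤ) 0 _).inv := by
  simp [alpha, HomologicalComplex.single_map_f_self, HomologicalComplex.singleMapHomologicalComplex,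
    HomologicalComplex.singleObjXSelf, HomologicalComplex.singleObjXIsoOfEq]
  exact congrArg (ClSub.unitToPush f ≫ ·) ((Scheme.Modules.pushforward f).map_id _).symm

/-- The morphism in the statement. -/
theorem isSplitMono_of_cover [DCoh.HasRpush g] [HasInjectiveResolutions T.Modules] [HasInjectiveResolutions W.Modules]
    [HasInjectiveResolutions Y.Modules] (e : h ≫ g = q ≫ p)
    (hq : ∀ i : ℕ, 0 < i → IsZero ((Coh.Rpush q i).obj (Coh.structureModule T)))
    (τ : (Scheme.Modules.pushforward q).obj (Coh.structureModule T) ⟶ Coh.structureModule W)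
    (hτ : ClSub.unitToPush q ≫ τ = 𝟙 _) (hp0 : IsIso (ClSub.unitToPush p))
    (hp : ∀ i : ℕ, 0 < i → IsZero ((Coh.Rpush p i).obj (Coh.structureModule W))) :
    IsSplitMono ((DerivedCategory.singleFunctor S.Modules 0).map (ClSub.unitToPush g) ≫
        DerivedCategory.Qh.map ((HomotopyCategory.quotient S.Modules (ComplexShape.up ℤ)).map
          ((HomologicalComplex.singleMapHomologicalComplex (Scheme.Modules.pushforward g) (ComplexShape.up ℤ) 0).inv.app
            (Coh.structureModule Y))) ≫
        ((DCoh.pushKh g).totalRightDerivedUnit DerivedCategory.Qh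
          (HomotopyCategory.quasiIso Y.Modules (ComplexShape.up ℤ))).app
          ((HomotopyCategory.singleFunctor Y.Modules 0).obj (Coh.structureModule Y))) := by
  haveI : DCoh.HasRpush p :=
    DCat.hasRightDerivedFunctor_of_enoughKInj (DCat.modules_enoughKInj W) (DCoh.pushKh p)
  haveI : EnoughInjectives T.Modules := DCat.Acyclic.enoughInjectives
  haveI : EnoughInjectives W.Modules := DCat.Acyclic.enoughInjectives
  haveI : EnoughInjectives Y.Modules := DCat.Acyclic.enoughInjectives
  let G := (Scheme.Modules.pushforward g).mapHomologicalComplex (ComplexShape.up ℤ)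
  let H := (Scheme.Modules.pushforward h).mapHomologicalComplex (ComplexShape.up ℤ)
  let Q' := (Scheme.Modules.pushforward q).mapHomologicalComplex (ComplexShape.up ℤ)
  let P' := (Scheme.Modules.pushforward p).mapHomologicalComplex (ComplexShape.up ℤ)
  let qS := HomotopyCategory.quotient S.Modules (ComplexShape.up ℤ)
  let qY := HomotopyCategory.quotient Y.Modules (ComplexShape.up ℤ)
  let qW := HomotopyCategory.quotient W.Modules (ComplexShape.up ℤ)
  let R : InjectiveResolution (Coh.structureModule T) := injectiveResolution _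
  let J := R.cochainComplex
  let N := Scheme.Modules.pushforwardComp h g ≪≫ Scheme.Modules.pushforwardCongr e ≪≫
        (Scheme.Modules.pushforwardComp q p).symm
  let c : G.obj (H.obj J) ≅ P'.obj (Q'.obj J) :=
    HomologicalComplex.Hom.isoOfComponents (fun n => N.app (J.X n))
      (fun i j _ => (N.hom.naturality (J.d i j)).symm)
  -- the map to `h_* J`
  let a : SO Y ⟶ H.obj J := alpha h ≫ H.map R.ι'
  let β : SO W ⟶ Q'.obj J := alpha q ≫ Q'.map R.ι'
  have hcomm : alpha g ≫ G.map a ≫ c.hom = alpha p ≫ P'.map β := by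
    apply HomologicalComplex.from_single_hom_ext
    simp only [a, β, G, H, Q', P', c, HomologicalComplex.comp_f, Functor.mapHomologicalComplex_map_f,
      HomologicalComplex.Hom.isoOfComponents_hom_f, alpha_f, Iso.app_hom]
    exact chase N _ _ _ _ (units_eq h g q p e) _ _ _ _ _
  -- acyclicity
  haveI hge : CochainComplex.IsStrictlyGE (H.obj J) 0 := inferInstance
  haveI hJi : ∀ n, Injective (J.X n) := fun n => inferInstance
  let ηg := (DCoh.pushKh g).totalRightDerivedUnit DerivedCategory.Qh (HomotopyCategory.quasiIso Y.Modules (ComplexShape.up ℤ))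
  let ηp := (DCoh.pushKh p).totalRightDerivedUnit DerivedCategory.Qh (HomotopyCategory.quasiIso W.Modules (ComplexShape.up ℤ))
  haveI hiso1 : IsIso (ηg.app (qY.obj (H.obj J))) :=
    DQCoh.isIso_unit_boundedBelow g (H.obj J) 0 fun n => acy_injective_push h g (J.X n)
  haveI hiso2 : IsIso (ηp.app (qW.obj (SO W))) := DQCoh.isIso_unit_boundedBelow p (SO W) 0 fun n => by
    by_cases hn : n = 0
    · subst hn
      exact DCat.Acyclic.Acy.of_iso hp (HomologicalComplex.singleObjXSelf (ComplexShape.up ℤ) 0 _).symm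
    · exact fun i _ => ((Scheme.Modules.pushforward p).rightDerived i).map_isZero
        (HomologicalComplex.isZero_single_obj_X _ 0 _ n hn)
  haveI : PreservesFiniteLimits (Scheme.Modules.pushforward q) :=
    haveI := (Scheme.Modules.pullbackPushforwardAdjunction q).rightAdjoint_preservesLimits
    inferInstance
  haveI : QuasiIso (Q'.map R.ι') :=
    (CommAlg4.UnitSingle.quasiIso_map_ι'_iff (Scheme.Modules.pushforward q) R).2 ⟨inferInstance, hq⟩
  haveI : IsIso (DerivedCategory.Qh.map (qW.map (Q'.map R.ι'))) :=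
    (DerivedCategory.isIso_Q_map_iff_quasiIso W.Modules (Q'.map R.ι')).2 inferInstance
  haveI : IsIso (alpha p) := by unfold alpha; infer_instance
  haveI : IsIso (DerivedCategory.Qh.map (qS.map (alpha p))) := inferInstance
  let rW : DerivedCategory.Qh.obj (qW.obj (Q'.obj J)) ⟶ DerivedCategory.Qh.obj (qW.obj (SO W)) :=
    inv (DerivedCategory.Qh.map (qW.map (Q'.map R.ι'))) ≫ DerivedCategory.Qh.map (qW.map
      ((HomologicalComplex.singleMapHomologicalComplex (Scheme.Modules.pushforward q) (ComplexShape.up ℤ) 0).hom.app (Coh.structureModule T) ≫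
        (HomologicalComplex.single W.Modules (ComplexShape.up ℤ) 0).map τ))
  have hrW : DerivedCategory.Qh.map (qW.map β) ≫ rW = 𝟙 _ := by
    simp only [rW, β, Functor.map_comp, Category.assoc, IsIso.hom_inv_id_assoc]
    simp only [← Functor.map_comp]
    rw [show alpha q ≫ (HomologicalComplex.singleMapHomologicalComplex (Scheme.Modules.pushforward q) (ComplexShape.up ℤ) 0).hom.app
        (Coh.structureModule T) ≫ (HomologicalComplex.single W.Modules (ComplexShape.up ℤ) 0).map τ = 𝟙 _ by
      simp only [alpha, Category.assoc]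
      erw [Iso.inv_hom_id_app_assoc]
      rw [← Functor.map_comp, hτ, CategoryTheory.Functor.map_id]]
    simp
  let θ : (DCoh.Rpush g).obj (DerivedCategory.Qh.obj (qY.obj (SO Y))) ⟶
      DerivedCategory.Qh.obj (qS.obj (G.obj (H.obj J))) :=
    (DCoh.Rpush g).map (DerivedCategory.Qh.map (qY.map a)) ≫ inv (ηg.app (qY.obj (H.obj J)))
  let r := θ ≫ DerivedCategory.Qh.map (qS.map c.hom) ≫ ηp.app (qW.obj (Q'.obj J)) ≫
    (DCoh.Rpush p).map rW ≫ inv (ηp.app (qW.obj (SO W))) ≫ inv (DerivedCategory.Qh.map (qS.map (alpha p)))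
  refine ⟨⟨r, ?_⟩⟩
  change (DerivedCategory.Qh.map (qS.map ((HomologicalComplex.single S.Modules (ComplexShape.up ℤ) 0).map (ClSub.unitToPush g))) ≫
    DerivedCategory.Qh.map (qS.map ((HomologicalComplex.singleMapHomologicalComplex (Scheme.Modules.pushforward g) (ComplexShape.up ℤ) 0).inv.app
      (Coh.structureModule Y))) ≫ ηg.app (qY.obj (SO Y))) ≫ r = 𝟙 _
  have n1 : ηg.app (qY.obj (SO Y)) ≫ (DCoh.Rpush g).map (DerivedCategory.Qh.map (qY.map a)) =
      DerivedCategory.Qh.map (qS.map (G.map a)) ≫ ηg.app (qY.obj (H.obj J)) := (ηg.naturality (qY.map a)).symm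
  have n2 : ηp.app (qW.obj (SO W)) ≫ (DCoh.Rpush p).map (DerivedCategory.Qh.map (qW.map β)) =
      DerivedCategory.Qh.map (qS.map (P'.map β)) ≫ ηp.app (qW.obj (Q'.obj J)) := (ηp.naturality (qW.map β)).symm
  simp only [r, θ, Category.assoc]
  rw [reassoc_of% n1, IsIso.hom_inv_id_assoc]
  simp only [← Functor.map_comp_assoc, ← Functor.map_comp, Category.assoc]
  rw [show (HomologicalComplex.single S.Modules (ComplexShape.up ℤ) 0).map (ClSub.unitToPush g) ≫
      (HomologicalComplex.singleMapHomologicalComplex (Scheme.Modules.pushforward g) (ComplexShape.up ℤ) 0).inv.app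
        (Coh.structureModule Y) ≫ G.map a ≫ c.hom = alpha p ≫ P'.map β by rw [← hcomm, alpha, Category.assoc]]
  simp only [Functor.map_comp, Category.assoc]
  rw [← reassoc_of% n2, ← Functor.map_comp_assoc, hrW]
  simp

end

end Groth.Agent.RatSplit13
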